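import Mathlib

/-!
# Bounded presentations and products
-/

set_option autoImplicit false

universe u v

open scoped TensorProduct

namespace Groth.Agent.ProdFP

variable {A : Type*} [CommRing A] {M : Type*} [AddCommGroup M] [Module A M]

/-- `M` is generated by `n` elements, with `m` relations. -/
def Bdd (A : Type*) [CommRing A] (M : Type*) [AddCommGroup M] [Module A M] (n m : ℕ) : Prop :=
  ∃ (g : (Fin n → A) →ₗ[A] M) (r : (Fin m → A) →ₗ[A] (Fin n → A)), Function.Surjective g ∧ Function.Exact r g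

theorem exists_bdd [Module.FinitePresentation A M] : ∃ n m, Bdd A M n m := by
  obtain ⟨n, g, hg⟩ := Module.Finite.exists_fin' A M
  have hfg := Module.FinitePresentation.fg_ker g hg
  haveI := Module.Finite.iff_fg.2 hfg
  obtain ⟨m, r, hr⟩ := Module.Finite.exists_fin' A (LinearMap.ker g)
  exact ⟨n, m, g, (LinearMap.ker g).subtype ∘ₗ r, hg, fun x => ⟨fun hx => ⟨_, congrArg Subtype.val
    (hr ⟨x, hx⟩).choose_spec⟩, fun ⟨y, hy⟩ => hy ▸ (r y).2⟩⟩

theorem Bdd.equiv {n m : ℕ} (h : Bdd A M n m) {N : Type*} [AddCommGroup N] [Module A N] (e : M ≃ₗ[A] N) :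
    Bdd A N n m := by
  obtain ⟨g, r, hg, hr⟩ := h
  exact ⟨e.toLinearMap ∘ₗ g, r, e.surjective.comp hg, fun x => by rw [← hr x]; simp⟩

theorem Bdd.baseChange {n m : ℕ} (h : Bdd A M n m) (B : Type*) [CommRing B] [Algebra A B] :
    Bdd B (B ⊗[A] M) n m := by
  obtain ⟨g, r, hg, hr⟩ := h
  let en := TensorProduct.piScalarRight A B B (Fin n)
  let em := TensorProduct.piScalarRight A B B (Fin m)
  refine ⟨g.baseChange B ∘ₗ en.symm.toLinearMap, en.toLinearMap ∘ₗ r.baseChange B ∘ₗ em.symm.toLinearMap,
    (LinearMap.lTensor_surjective B hg).comp en.symm.surjective, fun x => ?_⟩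
  have := lTensor_exact B hr hg (en.symm x)
  simp only [LinearMap.coe_comp, LinearEquiv.coe_coe, Function.comp_apply, Set.mem_range] at this ⊢
  refine this.trans ⟨fun ⟨y, hy⟩ => ⟨em y, ?_⟩, fun ⟨y, hy⟩ => ⟨em.symm y, ?_⟩⟩
  · rw [LinearEquiv.symm_apply_apply, LinearMap.baseChange_eq_ltensor, hy, LinearEquiv.apply_symm_apply]
  · rw [← LinearMap.baseChange_eq_ltensor, ← hy, LinearEquiv.symm_apply_apply]

/-- Bounds can be increased. -/
theorem Bdd.pad {n m : ℕ} (h : Bdd A M n m) (p q : ℕ) : Bdd A M (n + p) (m + p + q) := by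
  obtain ⟨g, r, hg, hr⟩ := h
  let e : ∀ a b : ℕ, ((Fin (a + b) → A) ≃ₗ[A] (Fin a → A) × (Fin b → A)) := fun a b =>
    (LinearEquiv.funCongrLeft A A finSumFinEquiv).trans (LinearEquiv.sumArrowLequivProdArrow _ _ A A)
  refine ⟨g ∘ₗ LinearMap.fst A _ _ ∘ₗ (e n p).toLinearMap,
    (e n p).symm.toLinearMap ∘ₗ (r.prodMap LinearMap.id) ∘ₗ (e m p).toLinearMap ∘ₗ LinearMap.fst A _ _ ∘ₗ
      (e (m + p) q).toLinearMap, hg.comp (Prod.fst_surjective.comp (e n p).surjective), fun x => ?_⟩
  refine ⟨fun hx => ?_, ?_⟩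
  · obtain ⟨w, hw⟩ := (hr _).1 hx
    refine ⟨(e (m + p) q).symm ((e m p).symm (w, (e n p x).2), 0), ?_⟩
    apply (e n p).injective
    simp [hw]
  · rintro ⟨w, rfl⟩
    simp [hr.apply_apply_eq_zero]

/-- Clear denominators in finitely many members of a comaximal family. -/
theorem span_eq_top_of_local {ι : Type*} [Finite ι] (a : ι → A) (ha : Ideal.span (Set.range a) = ⊤)
    (p : Submodule A M) (x : M) (h : ∀ j, ∃ k : ℕ, a j ^ k • x ∈ p) : x ∈ p := by
  choose k hk using h
  let I : Ideal A := { carrier := {c | c • x ∈ p}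
                       add_mem' := fun {c d} hc hd => show (c + d) • x ∈ p by rw [add_smul]; exact p.add_mem hc hd
                       zero_mem' := show (0 : A) • x ∈ p by rw [zero_smul]; exact p.zero_mem
                       smul_mem' := fun c d hd => show (c * d) • x ∈ p by rw [mul_smul]; exact p.smul_mem c hd }
  have hI : I = ⊤ := by
    refine (Ideal.radical_eq_top).1 (top_unique (ha.symm.trans_le (Ideal.span_le.2 ?_)))
    rintro _ ⟨j, rfl⟩
    exact ⟨k j, hk j⟩
  have h1 : (1 : A) ∈ I := by rw [hI]; trivial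
  exact one_smul A x ▸ h1

theorem scal {B N : Type*} [CommRing B] [Algebra A B] [AddCommGroup N] [Module A N] [Module B N]
    [IsScalarTower A B N] {a : A} {e : ℕ} {c : B} {c' : A} (h : c * algebraMap A B a ^ e = algebraMap A B c')
    (b : A) (y : N) : a ^ e • b • c • y = c' • b • y := by
  rw [← IsScalarTower.algebraMap_smul B (a ^ e), smul_comm b c, smul_smul, map_pow, mul_comm, h,
    IsScalarTower.algebraMap_smul]

/-- A module with bounded presentations on a comaximal cover has a bounded one. -/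
theorem Bdd.of_cover {ι : Type} [Fintype ι] (a : ι → A) (ha : Ideal.span (Set.range a) = ⊤)
    (B : ι → Type v) [∀ j, CommRing (B j)] [∀ j, Algebra A (B j)] [∀ j, IsLocalization.Away (a j) (B j)]
    (N : ι → Type v) [∀ j, AddCommGroup (N j)] [∀ j, Module A (N j)] [∀ j, Module (B j) (N j)]
    [∀ j, IsScalarTower A (B j) (N j)]
    (f : ∀ j, M →ₗ[A] N j) [∀ j, IsLocalizedModule (Submonoid.powers (a j)) (f j)]
    (n m : ℕ) (h : ∀ j, Bdd (B j) (N j) n m) :
    Bdd A M (Fintype.card ι * n)
      (Fintype.card ι * (Fintype.card ι * n + m)) := by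
  classical
  choose g r hg hr using h
  have hsur : ∀ j (y : N j), ∃ (k : ℕ) (x : M), a j ^ k • y = f j x := fun j y => by
    obtain ⟨⟨x, s, k, rfl⟩, hx⟩ := IsLocalizedModule.surj (Submonoid.powers (a j)) (f j) y
    exact ⟨k, x, hx⟩
  choose kg xg hxg using fun (q : ι × Fin n) => hsur q.1 (g q.1 (Pi.single q.2 1))
  let N₀ := Fintype.card ι * n
  let eN : ι × Fin n ≃ Fin N₀ := Fintype.equivFinOfCardEq (by simp [N₀])
  let G : (Fin N₀ → A) →ₗ[A] M := Fintype.linearCombination A fun q => xg (eN.symm q)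
  have hG : Function.Surjective G := by
    rw [← LinearMap.range_eq_top, eq_top_iff]
    intro x _
    refine span_eq_top_of_local a ha _ x fun j => ?_
    obtain ⟨c, hc⟩ := hg j (f j x)
    choose e he using fun l => IsLocalization.Away.surj (a j) (c l)
    choose c' hc' using he
    let E := Finset.univ.sum fun l => e l + kg (j, l)
    have key : f j (a j ^ E • x) ∈ (LinearMap.range G).map (f j) := by
      rw [map_smul, ← hc, (pi_eq_sum_univ' c : c = _), map_sum, Finset.smul_sum]
      refine Submodule.sum_mem _ fun l _ => ?_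
      rw [map_smul]
      obtain ⟨d, hd⟩ : ∃ d, E = d + (e l + kg (j, l)) :=
        ⟨E - (e l + kg (j, l)), (Nat.sub_add_cancel
          (Finset.single_le_sum (f := fun i => e i + kg (j, i)) (fun _ _ => Nat.zero_le _) (Finset.mem_univ l))).symm⟩
      rw [hd, pow_add, pow_add, mul_smul, mul_smul]
      refine Submodule.smul_mem _ _ ?_
      rw [scal (hc' l), hxg (j, l)]
      refine Submodule.smul_mem _ _ ⟨xg (j, l), ⟨Pi.single (eN (j, l)) 1, ?_⟩, rfl⟩
      simp [G, Fintype.linearCombination_apply_single]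
    obtain ⟨z, hz, hzx⟩ := key
    obtain ⟨⟨_, t, rfl⟩, ht⟩ := (IsLocalizedModule.eq_iff_exists (Submonoid.powers (a j)) (f j)).1 hzx.symm
    refine ⟨t + E, ?_⟩
    rw [pow_add, mul_smul]
    change a j ^ t • a j ^ E • x = a j ^ t • z at ht
    rw [ht]
    exact Submodule.smul_mem _ _ hz
  let ι' := fun j : ι => LinearMap.pi fun l => (Algebra.linearMap A (B j)) ∘ₗ LinearMap.proj (φ := fun _ : Fin N₀ => A) l
  -- the extension of `f j ∘ G` to the localised free module
  let Gj : ∀ j, (Fin N₀ → B j) →ₗ[B j] N j := fun j => Fintype.linearCombination (B j) fun q => f j (xg (eN.symm q))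
  have hGj : ∀ j v, Gj j (ι' j v) = f j (G v) := fun j v => by
    simp [Gj, G, ι', Fintype.linearCombination_apply]
  have hGs : ∀ j, Function.Surjective (Gj j) := fun j => by
    intro y
    obtain ⟨⟨x, s⟩, hx⟩ := IsLocalizedModule.surj (Submonoid.powers (a j)) (f j) y
    obtain ⟨v, rfl⟩ := hG x
    obtain ⟨u, hu⟩ := IsLocalization.map_units (B j) s
    refine ⟨(↑u⁻¹ : B j) • ι' j v, ?_⟩
    rw [map_smul, hGj, ← hx, Submonoid.smul_def, ← IsScalarTower.algebraMap_smul (B j) (s : A) y, ← hu, smul_smul,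
      Units.inv_mul, one_smul]
  have hker : ∀ j, ∃ w : (Fin N₀ ⊕ Fin m) → (Fin N₀ → B j), Submodule.span (B j) (Set.range w) = LinearMap.ker (Gj j) := by
    intro j
    obtain ⟨α, hα⟩ := Module.projective_lifting_property (g j) (Gj j) (hg j)
    obtain ⟨β, hβ⟩ := Module.projective_lifting_property (Gj j) (g j) (hGs j)
    have hα' : ∀ v, g j (α v) = Gj j v := fun v => LinearMap.congr_fun hα v
    have hβ' : ∀ v, Gj j (β v) = g j v := fun v => LinearMap.congr_fun hβ v
    refine ⟨Sum.elim (fun q => Pi.single q 1 - β (α (Pi.single q 1))) (fun q => β (r j (Pi.single q 1))),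
      le_antisymm (Submodule.span_le.2 ?_) fun v hv => ?_⟩
    · rintro _ ⟨q | q, rfl⟩ <;> simp only [SetLike.mem_coe, LinearMap.mem_ker, Sum.elim_inl, Sum.elim_inr, map_sub]
      · rw [hβ', hα', sub_self]
      · rw [hβ', (hr j).apply_apply_eq_zero]
    · have h1 : ∀ v, v - β (α v) ∈ Submodule.span (B j) (Set.range (Sum.elim
          (fun q => Pi.single q 1 - β (α (Pi.single q 1))) (fun q => β (r j (Pi.single q 1))))) := fun v => by
        rw [(pi_eq_sum_univ' v : v = _)]
        simp only [map_sum, map_smul, ← Finset.sum_sub_distrib, ← smul_sub]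
        exact Submodule.sum_mem _ fun q _ => Submodule.smul_mem _ _ (Submodule.subset_span ⟨Sum.inl q, rfl⟩)
      obtain ⟨w, hw⟩ := (hr j (α v)).1 (by rw [hα']; exact hv)
      have h2 : β (α v) ∈ Submodule.span (B j) (Set.range (Sum.elim
          (fun q => Pi.single q 1 - β (α (Pi.single q 1))) (fun q => β (r j (Pi.single q 1))))) := by
        rw [← hw, (pi_eq_sum_univ' w : w = _)]
        simp only [map_sum, map_smul]
        exact Submodule.sum_mem _ fun q _ => Submodule.smul_mem _ _ (Submodule.subset_span ⟨Sum.inr q, rfl⟩)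
      simpa using add_mem (h1 v) h2
  choose w hw using hker
  have hden : ∀ j (y : Fin N₀ → B j), Gj j y = 0 → ∃ (v : Fin N₀ → A) (k : ℕ), G v = 0 ∧ ι' j v = a j ^ k • y := by
    intro j y hy
    choose e he using fun l => IsLocalization.Away.surj (a j) (y l)
    choose v hv using he
    let E := Finset.univ.sum e
    let v' : Fin N₀ → A := fun l => a j ^ (E - e l) * v l
    have hv' : ι' j v' = a j ^ E • y := funext fun l => by
      have hle : e l ≤ E := Finset.single_le_sum (fun _ _ => Nat.zero_le _) (Finset.mem_univ l)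
      show algebraMap A (B j) (a j ^ (E - e l) * v l) = a j ^ E • y l
      obtain ⟨d, hd⟩ : ∃ d, E = d + e l := ⟨E - e l, (Nat.sub_add_cancel hle).symm⟩
      rw [hd, Nat.add_sub_cancel, map_mul, ← hv l, Algebra.smul_def, map_pow, map_pow, pow_add]
      ring
    have h0 : f j (G v') = f j 0 := by
      rw [← hGj, hv', LinearMap.map_smul_of_tower, hy, smul_zero, map_zero]
    obtain ⟨⟨_, t, rfl⟩, ht⟩ := (IsLocalizedModule.eq_iff_exists (Submonoid.powers (a j)) (f j)).1 h0
    refine ⟨a j ^ t • v', t + E, ?_, ?_⟩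
    · rw [map_smul]; exact ht.trans (smul_zero _)
    · rw [map_smul, hv', pow_add, mul_smul]
  choose rv kv hrv0 hrv using fun (q : ι × (Fin N₀ ⊕ Fin m)) => hden q.1 (w q.1 q.2)
    (LinearMap.mem_ker.1 ((hw q.1).le (Submodule.subset_span ⟨q.2, rfl⟩)))
  let eM : ι × (Fin N₀ ⊕ Fin m) ≃ Fin (Fintype.card ι * (N₀ + m)) := Fintype.equivFinOfCardEq (by simp)
  let R' := Fintype.linearCombination A fun q => rv (eM.symm q)
  refine ⟨G, R', hG, LinearMap.exact_iff.2 (le_antisymm (fun v hv => ?_) ?_)⟩
  · refine span_eq_top_of_local a ha _ v fun j => ?_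
    have h1 : ι' j v ∈ Submodule.span (B j) (Set.range (w j)) := by
      rw [hw, LinearMap.mem_ker, hGj, LinearMap.mem_ker.1 hv, map_zero]
    rw [Submodule.mem_span_range_iff_exists_fun] at h1
    obtain ⟨c, hc⟩ := h1
    choose e he using fun l => IsLocalization.Away.surj (a j) (c l)
    choose c' hc' using he
    let E := Finset.univ.sum fun l => e l + kv (j, l)
    have key : ι' j (a j ^ E • v) ∈ (LinearMap.range R').map (ι' j) := by
      rw [map_smul, ← hc, Finset.smul_sum]
      refine Submodule.sum_mem _ fun l _ => ?_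
      obtain ⟨d, hd⟩ : ∃ d, E = d + (e l + kv (j, l)) :=
        ⟨E - (e l + kv (j, l)), (Nat.sub_add_cancel
          (Finset.single_le_sum (f := fun i => e i + kv (j, i)) (fun _ _ => Nat.zero_le _) (Finset.mem_univ l))).symm⟩
      rw [hd, pow_add, pow_add, mul_smul, mul_smul]
      refine Submodule.smul_mem _ _ ?_
      rw [scal (hc' l), ← hrv (j, l)]
      refine Submodule.smul_mem _ _ ⟨rv (j, l), ⟨Pi.single (eM (j, l)) 1, ?_⟩, rfl⟩
      simp [R', Fintype.linearCombination_apply_single]
    obtain ⟨z, hz, hzx⟩ := key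
    choose t ht using fun l => IsLocalization.Away.exists_of_eq (a j) (congrFun hzx l)
    let T := Finset.univ.sum t
    refine ⟨T + E, ?_⟩
    have hT : a j ^ T • z = a j ^ (T + E) • v := funext fun l => by
      obtain ⟨d, hd⟩ : ∃ d, T = d + t l := ⟨T - t l, (Nat.sub_add_cancel
        (Finset.single_le_sum (fun _ _ => Nat.zero_le _) (Finset.mem_univ l))).symm⟩
      have := congrArg (a j ^ d * ·) (ht l)
      simp only [LinearMap.proj_apply, Pi.smul_apply, smul_eq_mul, hd, pow_add] at this ⊢
      linear_combination this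
    rw [← hT]
    exact Submodule.smul_mem _ _ hz
  · rintro _ ⟨c, rfl⟩
    simp [R', Fintype.linearCombination_apply, hrv0]

/-- A product of uniformly presented modules is finitely presented. -/
theorem finitePresentation_pi {ι : Type*} (A : ι → Type*) [∀ i, CommRing (A i)] (M : ι → Type*)
    [∀ i, AddCommGroup (M i)] [∀ i, Module (A i) (M i)] (n m : ℕ) (h : ∀ i, Bdd (A i) (M i) n m) :
    Module.FinitePresentation (∀ i, A i) (∀ i, M i) := by
  classical
  choose g r hg hr using h
  let G : (Fin n → ∀ i, A i) →ₗ[∀ i, A i] (∀ i, M i) :=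
    { toFun := fun v i => g i fun q => v q i
      map_add' := fun v w => funext fun i => (map_add (g i) _ _)
      map_smul' := fun c v => funext fun i => (map_smul (g i) (c i) _) }
  let R' : (Fin m → ∀ i, A i) →ₗ[∀ i, A i] (Fin n → ∀ i, A i) :=
    { toFun := fun v q i => r i (fun l => v l i) q
      map_add' := fun v w => funext fun q => funext fun i => congrFun (map_add (r i) _ _) q
      map_smul' := fun c v => funext fun q => funext fun i => congrFun (map_smul (r i) (c i) _) q }
  have hG : Function.Surjective G := fun y => by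
    choose v hv using fun i => hg i (y i)
    exact ⟨fun q i => v i q, funext hv⟩
  refine Module.finitePresentation_of_surjective G hG ?_
  have : LinearMap.ker G = LinearMap.range R' := by
    ext v
    refine ⟨fun hv => ?_, ?_⟩
    · choose c hc using fun i => (hr i _).1 (congrFun (LinearMap.mem_ker.1 hv) i)
      exact ⟨fun l i => c i l, funext fun q => funext fun i => congrFun (hc i) q⟩
    · rintro ⟨c, rfl⟩
      exact LinearMap.mem_ker.2 (funext fun i => (hr i).apply_apply_eq_zero _)
  rw [this]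
  exact Module.Finite.iff_fg.1 (Module.Finite.range R')

end Groth.Agent.ProdFP
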