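import Groth.Agent.ProdFP.Algebra
import Groth.Agent.QC.Pullback
import Groth.Agent.LocFree.Props
import Mathlib

/-!
# Uniform presentations of pullbacks of a finitely presented module
-/

set_option autoImplicit false
set_option backward.isDefEq.respectTransparency false

universe u

open CategoryTheory CategoryTheory.Limits AlgebraicGeometry TopologicalSpace Opposite
open scoped TensorProduct
open Groth.Agent.QC (res resO res_smul)

namespace Groth.Agent.ProdFP

variable {X Y : Scheme.{u}}

theorem bdd_pullback (f : X ⟶ Y) {F : Y.Modules} [F.IsQuasicoherent] {U : Y.Opens} (hU : IsAffineOpen U) {V : X.Opens}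
    (hV : IsAffineOpen V) (h : V ≤ f ⁻¹ᵁ U) {n m : ℕ} (hb : Bdd Γ(Y, U) Γ(F, U) n m) :
    Bdd Γ(X, V) Γ((Scheme.Modules.pullback f).obj F, V) n m := by
  let G := (modulesSpecToSheaf.obj (F.restrict hU.fromSpec)).presheaf.obj (op ⊤)
  have hG : Bdd Γ(Y, U) G n m := hb.equiv (QC.topEquiv hU F).symm
  let N' := (ModuleCat.extendScalars.{u, u, u} (f.appLE U V h).hom).obj G
  have hN : Bdd Γ(X, V) N' n m := by
    letI := (f.appLE U V h).hom.toAlgebra
    exact hG.baseChange Γ(X, V)
  let i := tilde.isoTop N' ≪≫ asIso ((modulesSpecToSheaf.map (QC.pullbackAffineIso f hU hV h).inv).1.app (op ⊤))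
  exact (hN.equiv i.toLinearEquiv).equiv (QC.topEquiv hV _)

end Groth.Agent.ProdFP
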